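import Mathlib.GroupTheory.Sylow
import Mathlib.GroupTheory.Index
import Mathlib.GroupTheory.OrderOfElement
import Mathlib.GroupTheory.GroupAction.ConjAct
import Mathlib.GroupTheory.QuotientGroup.Basic

/-!
# Prime power parts of elements

* `exists_part_not_mem`: a subgroup missing `g` misses a prime power part of `g`;
* `exists_primePow_lift`: prime power elements lift to prime power elements;
* `index_centralizer_map_dvd`, `relIndex_dvd_index_of_normal'`;
* `ncard_carrier`: class size = index of the centraliser.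
-/

set_option autoImplicit false

namespace Cfsg.Agent.PrimeParts

open Subgroup

variable {G : Type*} [Group G]

/-- If `g ∉ S` then some prime power part of `g` lies outside `S`. -/
theorem exists_part_not_mem [Finite G] {S : Subgroup G} {g : G} (hg : g ∉ S) :
    ∃ (q b : ℕ) (y : G), q.Prime ∧ q ∣ orderOf g ∧ y ∈ zpowers g ∧ orderOf y = q ^ b ∧ y ∉ S := by
  suffices h : ∀ n : ℕ, ∀ g : G, orderOf g = n → g ∉ S →
      ∃ (q b : ℕ) (y : G), q.Prime ∧ q ∣ orderOf g ∧ y ∈ zpowers g ∧ orderOf y = q ^ b ∧ y ∉ S from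
    h _ g rfl hg
  intro n
  induction n using Nat.strong_induction_on with
  | _ n ih =>
  intro g hn hg
  have h1 : orderOf g ≠ 1 := fun h => hg (by rw [orderOf_eq_one_iff.1 h]; exact S.one_mem)
  obtain ⟨q, hq, hqd⟩ := Nat.exists_prime_and_dvd h1
  obtain ⟨b, m, hm, hbm⟩ := Nat.exists_eq_pow_mul_and_not_dvd (orderOf_pos g).ne' q hq.ne_one
  have hb : b ≠ 0 := by rintro rfl; rw [pow_zero, one_mul] at hbm; exact hm (hbm ▸ hqd)
  by_cases hA : g ^ m ∈ S
  · have hB : g ^ q ^ b ∉ S := fun hB => hg <| by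
      have hco : Nat.gcd (q ^ b) m = 1 := ((hq.coprime_iff_not_dvd.2 hm).pow_left b)
      have h := Nat.gcd_eq_gcd_ab (q ^ b) m
      rw [hco, Nat.cast_one] at h
      rw [← zpow_one g, h, zpow_add, zpow_mul, zpow_mul, zpow_natCast, zpow_natCast]
      exact S.mul_mem (S.zpow_mem hB _) (S.zpow_mem hA _)
    have hord : orderOf (g ^ q ^ b) = m := by
      rw [orderOf_pow, hbm, Nat.gcd_eq_right (dvd_mul_right _ _),
        Nat.mul_div_cancel_left m (pow_pos hq.pos b)]
    have hlt : m < n := by
      rw [← hn, hbm]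
      have hm0 : 0 < m := Nat.pos_of_ne_zero fun h => hm (h ▸ dvd_zero q)
      exact lt_mul_of_one_lt_left hm0 (Nat.one_lt_pow hb hq.one_lt)
    obtain ⟨r, c, y, hr, hrd, hy, hyo, hyS⟩ := ih m hlt _ hord hB
    exact ⟨r, c, y, hr, hrd.trans (orderOf_pow_dvd _),
      zpowers_le.2 (pow_mem (mem_zpowers g) _) hy, hyo, hyS⟩
  · refine ⟨q, b, g ^ m, hq, hqd, pow_mem (mem_zpowers g) _, ?_, hA⟩
    have hm0 : 0 < m := Nat.pos_of_ne_zero fun h => hm (h ▸ dvd_zero q)
    rw [orderOf_pow, hbm, Nat.gcd_eq_right (dvd_mul_left _ _), Nat.mul_div_cancel _ hm0]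

/-- A prime power element of an image lifts to a prime power element. -/
theorem exists_primePow_lift [Finite G] {H : Type*} [Group H] (f : G →* H)
    (hf : Function.Surjective f) {q b : ℕ} (hq : q.Prime) {y : H} (hy : orderOf y = q ^ b) :
    ∃ (x : G) (c : ℕ), f x = y ∧ orderOf x = q ^ c := by
  obtain ⟨g, rfl⟩ := hf y
  obtain ⟨a, m, hm, hn⟩ := Nat.exists_eq_pow_mul_and_not_dvd (orderOf_pos g).ne' q hq.ne_one
  have hcop : m.Coprime (orderOf (f g)) := hy ▸ ((hq.coprime_iff_not_dvd.2 hm).symm.pow_right b)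
  obtain ⟨c, hc⟩ := exists_pow_eq_self_of_coprime hcop
  obtain ⟨l, -, hl⟩ := (Nat.dvd_prime_pow hq).1 (orderOf_dvd_of_pow_eq_one (x := (g ^ m) ^ c)
    (n := q ^ a) (by rw [← pow_mul, ← pow_mul, ← orderOf_dvd_iff_pow_eq_one, hn]; exact ⟨c, by ring⟩))
  exact ⟨(g ^ m) ^ c, l, by rw [map_pow, map_pow, hc], hl⟩

/-- Class sizes can only drop, by division, in a homomorphic image. -/
theorem index_centralizer_map_dvd {H : Type*} [Group H] (f : G →* H) (hf : Function.Surjective f)
    (x : G) : (centralizer ({f x} : Set H)).index ∣ (centralizer ({x} : Set G)).index := by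
  refine dvd_trans (index_dvd_of_le ?_) (index_map_dvd _ hf)
  rintro _ ⟨c, hc, rfl⟩
  rw [SetLike.mem_coe, mem_centralizer_singleton_iff] at hc
  rw [mem_centralizer_singleton_iff]
  rw [← map_mul, ← map_mul, hc]

/-- The index of `C ∩ N` in a normal subgroup `N` divides the index of `C`. -/
theorem relIndex_dvd_index_of_normal' [Finite G] (C N : Subgroup G) [N.Normal] :
    C.relIndex N ∣ C.index := by
  have h := relIndex_mul_index (le_sup_left : C ≤ C ⊔ N)
  rw [← h]
  refine Dvd.intro (C ⊔ N).index ?_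
  congr 1
  have h1 := Subgroup.card_mul_index (C.subgroupOf N)
  have h2 := Subgroup.card_mul_index (C.subgroupOf (C ⊔ N))
  have h3 : Nat.card (C.subgroupOf N) = Nat.card ↥(C ⊓ N) := by
    rw [← inf_subgroupOf_right C N]
    exact Nat.card_congr (subgroupOfEquivOfLe inf_le_right).toEquiv
  have h4 : Nat.card (C.subgroupOf (C ⊔ N)) = Nat.card C :=
    Nat.card_congr (subgroupOfEquivOfLe le_sup_left).toEquiv
  have h5 : N.relIndex (C ⊔ N) = N.relIndex C := relIndex_sup_right C N
  have h6 := Subgroup.card_mul_index (N.subgroupOf (C ⊔ N))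
  have h7 := Subgroup.card_mul_index (N.subgroupOf C)
  have h8 : Nat.card (N.subgroupOf (C ⊔ N)) = Nat.card N :=
    Nat.card_congr (subgroupOfEquivOfLe le_sup_right).toEquiv
  have h9 : Nat.card (N.subgroupOf C) = Nat.card ↥(C ⊓ N) := by
    rw [← inf_subgroupOf_right N C, inf_comm N C]
    exact Nat.card_congr (subgroupOfEquivOfLe inf_le_left).toEquiv
  change (C.subgroupOf N).index = (C.subgroupOf (C ⊔ N)).index
  simp only [relIndex] at h5
  rw [h3] at h1; rw [h4] at h2; rw [h8, h5] at h6; rw [h9] at h7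
  have hpos : 0 < Nat.card C := Nat.card_pos
  apply Nat.eq_of_mul_eq_mul_left hpos
  rw [h2, ← h6, ← h7, ← h1]
  ring

/-- The size of a conjugacy class is the index of the centraliser. -/
theorem ncard_carrier [Finite G] (g : G) :
    (ConjClasses.mk g).carrier.ncard = (centralizer ({g} : Set G)).index := by
  rw [← ConjAct.orbit_eq_carrier_conjClasses, ← MulAction.index_stabilizer]
  have h : (MulAction.stabilizer (ConjAct G) g).comap
      (ConjAct.toConjAct : G ≃* ConjAct G).toMonoidHom = centralizer ({g} : Set G) := by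
    ext x
    simp only [mem_comap, MulEquiv.coe_toMonoidHom, MulAction.mem_stabilizer_iff,
      ConjAct.smul_def, ConjAct.ofConjAct_toConjAct, mem_centralizer_singleton_iff,
      mul_inv_eq_iff_eq_mul]
  rw [← h, index_comap_of_surjective _ (MulEquiv.surjective _)]

end Cfsg.Agent.PrimeParts
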