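import Cfsg.Agent.Lib.PrimeParts.Basic
import Cfsg.Agent.Lib.PCore.Basic
import Cfsg.Agent.Lib.Coprime.Lift
import Cfsg.Agent.Lib.Involution.BaerSuzuki

/-!
# No 2-element acts nontrivially on an odd cyclic subgroup ⇒ normal Sylow 2-subgroup
-/

set_option autoImplicit false

namespace Cfsg.Agent.PrimeParts

open Subgroup

/-- Every 2-element normalising a cyclic subgroup of odd order centralises it. -/
def TwoCentralizesOdd (G : Type*) [Group G] : Prop :=
  ∀ x t : G, Odd (orderOf x) → (∃ k : ℕ, orderOf t = 2 ^ k) →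
    t ∈ normalizer ((zpowers x : Subgroup G) : Set G) → t * x = x * t

theorem twoCentralizesOdd_quotient {G : Type*} [Group G] [Finite G] (h : TwoCentralizesOdd G)
    (O : Subgroup G) [O.Normal] (hO : IsPGroup 2 O) : TwoCentralizesOdd (G ⧸ O) := by
  intro x t hx ⟨k, ht⟩ hn
  haveI : Fact (Nat.Prime 2) := ⟨Nat.prime_two⟩
  obtain ⟨n, hn2⟩ := hO.exists_card_eq
  have hco : (orderOf x).Coprime (Nat.card O) := by
    rw [hn2]; exact (Nat.coprime_two_left.2 hx).symm.pow_right n
  obtain ⟨x', rfl, hx'⟩ := Coprime.exists_orderOf_lift O x hco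
  obtain ⟨t', c, rfl, ht'⟩ := exists_primePow_lift _ (QuotientGroup.mk'_surjective O) Nat.prime_two ht
  have hconj : t' * x' * t'⁻¹ ∈ zpowers x' ⊔ O := by
    obtain ⟨j, hj⟩ := (mem_normalizer_iff.1 hn _).1 (mem_zpowers (x' : G ⧸ O))
    have h1 : (x' ^ j)⁻¹ * (t' * x' * t'⁻¹) ∈ O := QuotientGroup.eq.1 (by simpa using hj)
    have := mul_mem (mem_sup_left (T := O) (zpow_mem (mem_zpowers x') j)) (mem_sup_right h1)
    rwa [mul_inv_cancel_left] at this
  obtain ⟨u, hu, hun⟩ := Coprime.exists_mul_mem_normalizer_zpowers (hx' ▸ hco) hconj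
  have hf : QuotientGroup.mk' O (u * t') = QuotientGroup.mk' O t' := by
    rw [map_mul, QuotientGroup.mk'_apply, (QuotientGroup.eq_one_iff u).2 hu, one_mul]
  have h2 : ∃ l, orderOf (u * t') = 2 ^ l := by
    have hm : (u * t') ^ 2 ^ k ∈ O := by
      rw [← QuotientGroup.eq_one_iff]
      change QuotientGroup.mk' O _ = 1
      rw [map_pow, hf, ← ht, pow_orderOf_eq_one]
    obtain ⟨m, hm'⟩ := hO ⟨_, hm⟩
    have h3 : (u * t') ^ (2 ^ k * 2 ^ m) = 1 := by
      rw [pow_mul]; exact congrArg Subtype.val hm'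
    rw [← pow_add] at h3
    obtain ⟨l, -, hl⟩ := (Nat.dvd_prime_pow Nat.prime_two).1 (orderOf_dvd_of_pow_eq_one h3)
    exact ⟨l, hl⟩
  have hcomm := congrArg (QuotientGroup.mk' O) (h x' (u * t') (hx' ▸ hx) h2 hun)
  rw [map_mul (QuotientGroup.mk' O) (u * t'), map_mul (QuotientGroup.mk' O) x', hf] at hcomm
  exact hcomm

theorem orderOf_mul_conj_two_pow {G : Type*} [Group G] [Finite G] (h : TwoCentralizesOdd G)
    {t s : G} (ht : orderOf t = 2) (hs : orderOf s = 2) : ∃ a : ℕ, (t * s) ^ 2 ^ a = 1 := by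
  obtain ⟨a, m, hm, hd⟩ := Nat.exists_eq_pow_mul_and_not_dvd (orderOf_pos (t * s)).ne' 2 (by norm_num)
  refine ⟨a, ?_⟩
  have ht' := Involution.sq_of_orderOf_two ht
  have hinv : t * (t * s) ^ 2 ^ a * t⁻¹ = ((t * s) ^ 2 ^ a)⁻¹ := by
    have h1 := Involution.invol_conj_zpow
      (Involution.invol_conj_mul ht' (Involution.sq_of_orderOf_two hs)) ((2 ^ a : ℕ) : ℤ)
    rwa [zpow_neg, zpow_natCast] at h1
  have ho : orderOf ((t * s) ^ 2 ^ a) = m := by
    rw [orderOf_pow, hd, Nat.gcd_eq_right (dvd_mul_right _ _),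
      Nat.mul_div_cancel_left m (by positivity)]
  have hodd : Odd m := Nat.odd_iff.2 (Nat.two_dvd_ne_zero.1 hm)
  have hn : t ∈ normalizer ((zpowers ((t * s) ^ 2 ^ a) : Subgroup G) : Set G) := by
    refine Coprime.mem_normalizer_of_conj_smul_eq ?_
    change Subgroup.map (MulAut.conj t).toMonoidHom _ = _
    rw [MonoidHom.map_zpowers]
    change zpowers (t * (t * s) ^ 2 ^ a * t⁻¹) = _
    rw [hinv, zpowers_inv]
  have hc := h _ t (ho ▸ hodd) ⟨1, by rw [ht, pow_one]⟩ hn
  rw [hc, mul_inv_cancel_right] at hinv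
  have hsq : orderOf ((t * s) ^ 2 ^ a) ∣ 2 :=
    orderOf_dvd_of_pow_eq_one (by rw [pow_two]; exact eq_inv_iff_mul_eq_one.1 hinv)
  rcases (Nat.dvd_prime Nat.prime_two).1 hsq with h2 | h2
  · exact orderOf_eq_one_iff.1 h2
  · rw [ho] at h2; rw [h2] at hodd; exact absurd hodd (by decide)

theorem sylow_two_normal_of_twoCentralizesOdd.{u} : ∀ (k : ℕ) (G : Type u) [Group G] [Finite G],
    Nat.card G = k → TwoCentralizesOdd G → ∀ P : Sylow 2 G, (P : Subgroup G).Normal := by
  intro k
  induction k using Nat.strong_induction_on with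
  | _ k ih =>
  intro G _ _ hk h P
  haveI : Fact (Nat.Prime 2) := ⟨Nat.prime_two⟩
  by_cases hO : Cfsg.pCore 2 G = ⊥
  · by_cases h2 : 2 ∣ Nat.card G
    · exfalso
      obtain ⟨t, ht⟩ := exists_prime_orderOf_dvd_card' 2 h2
      have hN : IsPGroup 2 (normalClosure ({t} : Set G)) := by
        refine Involution.baer_suzuki t fun g => ?_
        have hg : orderOf (g * t * g⁻¹) = 2 := by
          rw [← MulAut.conj_apply]; exact (MulEquiv.orderOf_eq _ t).trans ht
        obtain ⟨a, ha⟩ := orderOf_mul_conj_two_pow h ht hg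
        exact Involution.isPGroup_closure_pair (Involution.sq_of_orderOf_two ht)
          (Involution.sq_of_orderOf_two hg) ha
      have h1 : t ∈ Cfsg.pCore 2 G := PCore.le_pCore hN (subset_normalClosure rfl)
      rw [hO, mem_bot] at h1
      rw [h1, orderOf_one] at ht
      exact absurd ht (by norm_num)
    · have hbot : (P : Subgroup G) = ⊥ := by
        by_contra hne
        obtain ⟨n, hn⟩ := P.isPGroup'.exists_card_eq
        have hn0 : n ≠ 0 := fun h0 => hne (card_eq_one.1 (by rw [hn, h0, pow_zero]))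
        exact h2 ((dvd_pow_self 2 hn0).trans (hn ▸ card_subgroup_dvd_card (P : Subgroup G)))
      rw [hbot]; infer_instance
  · let O := Cfsg.pCore 2 G
    have hOp : IsPGroup 2 O := PCore.isPGroup_pCore
    have hlt : Nat.card (G ⧸ O) < k := by
      rw [← hk, card_eq_card_quotient_mul_card_subgroup O]
      exact lt_mul_of_one_lt_right Nat.card_pos (O.one_lt_card_iff_ne_bot.2 hO)
    have hf := QuotientGroup.mk'_surjective O
    have hn := ih _ hlt (G ⧸ O) rfl (twoCentralizesOdd_quotient h O hOp) (P.mapSurjective hf)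
    rw [Sylow.coe_mapSurjective] at hn
    have hle : O ≤ (P : Subgroup G) := PCore.pCore_le_sylow P
    have heq : ((P : Subgroup G).map (QuotientGroup.mk' O)).comap (QuotientGroup.mk' O) = P :=
      comap_map_eq_self (by rw [QuotientGroup.ker_mk']; exact hle)
    rw [← heq]
    exact hn.comap _

end Cfsg.Agent.PrimeParts
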